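import Cfsg.Agent.H620.Kill
import Cfsg.Agent.H620.Solv
import Cfsg.Agent.H419.Count_m3
import Cfsg.Agent.H404.VanishBlock
import Cfsg.Agent.M23.BlockInt
import Cfsg.Agent.H713.Invol
import Cfsg.Agent.Prune
set_option linter.all false

section
prune_inst 0x7f00000000000000000000000000000000000000000000000000000000000000000000000000000000000000000000000000000000000000000000000000000000000000000000000000000000000000003ffff7ffffffffffffffffffffffbeffbdefffffff

-- part: H695/Row49
section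
prune_inst 0x8000000000000000000000000000010000000
set_option linter.all false
open scoped Cfsg.Agent.FastGrp

/-!
# Reduction of S4849 to simple groups (helper695)

* `Row49 S`: what has to be shown for each non-abelian simple group `S`;
* `Tri S`: three `VZ` elements of pairwise coprime orders; gives `Row49`, `Row56` and `Row57`;
* `solvable_of_row49`, `result_of_row49`: S4849 from the rows.
-/

set_option autoImplicit false
set_option linter.dupNamespace false

namespace Cfsg.Agent.H695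

open Cfsg Cfsg.Agent.Characters.Core Cfsg.Agent.H713 Cfsg.Agent.H620

universe u v

/-- What has to be shown for S4849: for each prime `p` there are two `p`-regular `VZ` elements whose orders
have different sets of prime divisors. -/
def Row49 (S : Type*) [Group S] : Prop :=
  ∀ p : ℕ, p.Prime → ∃ x y : S, VZ S x ∧ VZ S y ∧ ¬ p ∣ orderOf x ∧ ¬ p ∣ orderOf y ∧
    (orderOf x).primeFactors ≠ (orderOf y).primeFactors

/-- Three `VZ` elements of pairwise coprime orders. -/
def Tri (S : Type*) [Group S] : Prop :=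
  ∃ x y z : S, VZ S x ∧ VZ S y ∧ VZ S z ∧ (orderOf x).Coprime (orderOf y) ∧
    (orderOf x).Coprime (orderOf z) ∧ (orderOf y).Coprime (orderOf z)

theorem Row49.mulEquiv {S : Type*} [Group S] {S' : Type*} [Group S'] (h : Row49 S)
    (e : S ≃* S') : Row49 S' := by
  intro p hp
  obtain ⟨x, y, hx, hy, h1, h2, h3⟩ := h p hp
  refine ⟨e x, e y, hx.mulEquiv e, hy.mulEquiv e, ?_, ?_, ?_⟩
  · rwa [MulEquiv.orderOf_eq]
  · rwa [MulEquiv.orderOf_eq]
  · rwa [MulEquiv.orderOf_eq, MulEquiv.orderOf_eq]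

theorem Tri.mulEquiv {S : Type*} [Group S] {S' : Type*} [Group S'] (h : Tri S)
    (e : S ≃* S') : Tri S' := by
  obtain ⟨x, y, z, hx, hy, hz, h1, h2, h3⟩ := h
  refine ⟨e x, e y, e z, hx.mulEquiv e, hy.mulEquiv e, hz.mulEquiv e, ?_, ?_, ?_⟩ <;>
    simpa only [MulEquiv.orderOf_eq]

/-- `VZ` elements are non-trivial. -/
theorem ne_one_of_vz {S : Type*} [Group S] {x : S} (h : VZ S x) : x ≠ 1 := by
  rintro rfl
  obtain ⟨θ, hθ⟩ := h
  have h1 := hθ 1
  rw [map_one] at h1
  exact isIrr_apply_one_ne_zero θ.2 h1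

theorem orderOf_ne_one_of_vz {S : Type*} [Group S] {x : S} (h : VZ S x) : orderOf x ≠ 1 :=
  fun h1 => ne_one_of_vz h (orderOf_eq_one_iff.1 h1)

theorem primeFactors_ne_of_coprime {a b : ℕ} (ha : a ≠ 1) (ha0 : a ≠ 0) (h : a.Coprime b) :
    a.primeFactors ≠ b.primeFactors := by
  intro he
  have h1 : Disjoint a.primeFactors b.primeFactors := h.disjoint_primeFactors
  rw [← he, disjoint_self, Finset.bot_eq_empty, Nat.primeFactors_eq_empty] at h1
  omega

theorem Tri.row49 {S : Type*} [Group S] [Finite S] (h : Tri S) : Row49 S := by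
  obtain ⟨x, y, z, hx, hy, hz, hxy, hxz, hyz⟩ := h
  intro p hp
  have hco : ∀ {a b : ℕ}, a.Coprime b → p ∣ a → ¬ p ∣ b := fun hab h1 h2 =>
    Nat.Prime.not_coprime_iff_dvd.2 ⟨p, hp, h1, h2⟩ hab
  have hp1 : ∀ {u v : S}, VZ S u → (orderOf u).Coprime (orderOf v) →
      (orderOf u).primeFactors ≠ (orderOf v).primeFactors := fun hu huv =>
    primeFactors_ne_of_coprime (orderOf_ne_one_of_vz hu) (orderOf_pos _).ne' huv
  by_cases h1 : p ∣ orderOf x
  · exact ⟨y, z, hy, hz, hco hxy h1, hco hxz h1, hp1 hy hyz⟩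
  · by_cases h2 : p ∣ orderOf y
    · exact ⟨x, z, hx, hz, h1, hco hyz h2, hp1 hx hxz⟩
    · exact ⟨x, y, hx, hy, h1, h2, hp1 hx hxy⟩

/-- `Tri` from three killed primes. -/
theorem tri_of_kill {S : Type*} [Group S] [Finite S] {p q r : ℕ} (hp : p.Prime) (hq : q.Prime)
    (hr : r.Prime) (hpq : p ≠ q) (hpr : p ≠ r) (hqr : q ≠ r) (kp : Kill S p) (kq : Kill S q)
    (kr : Kill S r) (dp : p ∣ Nat.card S) (dq : q ∣ Nat.card S) (dr : r ∣ Nat.card S) : Tri S := by
  have : Fact p.Prime := ⟨hp⟩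
  have : Fact q.Prime := ⟨hq⟩
  have : Fact r.Prime := ⟨hr⟩
  obtain ⟨x, hx⟩ := exists_prime_orderOf_dvd_card' p dp
  obtain ⟨y, hy⟩ := exists_prime_orderOf_dvd_card' q dq
  obtain ⟨z, hz⟩ := exists_prime_orderOf_dvd_card' r dr
  refine ⟨x, y, z, kp.vz (by rw [hx]), kq.vz (by rw [hy]), kr.vz (by rw [hz]), ?_, ?_, ?_⟩
  · rw [hx, hy]; exact (Nat.coprime_primes hp hq).2 hpq
  · rw [hx, hz]; exact (Nat.coprime_primes hp hr).2 hpr
  · rw [hy, hz]; exact (Nat.coprime_primes hq hr).2 hqr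

/-- A vanishing `p`-regular element of a quotient determines the prime divisors of `b`. -/
theorem primeFactors_eq {G : Type*} [Group G] [Finite G] {p : ℕ} (hp : p.Prime) {b : ℕ}
    (h : ∀ g : G, Van G g → ¬ p ∣ orderOf g → orderOf g = b) (N : Subgroup G) [N.Normal]
    (x : G ⧸ N) (hx : Van (G ⧸ N) x) (hpx : ¬ p ∣ orderOf x) :
    b.primeFactors = (orderOf x).primeFactors := by
  classical
  -- a preimage of minimal order
  have hne : {n : ℕ | ∃ g : G, (g : G ⧸ N) = x ∧ orderOf g = n}.Nonempty := by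
    obtain ⟨g, hg⟩ := QuotientGroup.mk_surjective x
    exact ⟨_, g, hg, rfl⟩
  obtain ⟨g, hg, hgn⟩ := Nat.sInf_mem hne
  have hmin : ∀ g' : G, (g' : G ⧸ N) = x → orderOf g ≤ orderOf g' := by
    intro g' hg'
    rw [hgn]
    exact Nat.sInf_le ⟨g', hg', rfl⟩
  have hdvd : orderOf x ∣ orderOf g := by
    rw [← hg]
    exact orderOf_map_dvd (QuotientGroup.mk' N) g
  have hsub : ∀ r : ℕ, r.Prime → r ∣ orderOf g → r ∣ orderOf x := by
    intro r hr hrg
    by_contra hcon
    have hcon' : ¬ r ∣ orderOf (QuotientGroup.mk' N g) := by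
      rw [QuotientGroup.mk'_apply, hg]; exact hcon
    obtain ⟨g', h1, h2, h3⟩ := exists_lift_coprime (QuotientGroup.mk' N) r hr g hcon'
    have h4 := hmin g' (by rw [← hg]; exact h1)
    have h5 : orderOf g' ∣ orderOf g := orderOf_dvd_of_mem_zpowers h3
    have h6 : orderOf g' = orderOf g :=
      le_antisymm (Nat.le_of_dvd (orderOf_pos g) h5) h4
    rw [h6] at h2
    exact h2 hrg
  have hv : Van G g := by
    refine Van.of_surjective (QuotientGroup.mk' N) (QuotientGroup.mk'_surjective N) ?_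
    rw [QuotientGroup.mk'_apply, hg]
    exact hx
  have hpg : ¬ p ∣ orderOf g := fun h1 => hpx (hsub p hp h1)
  rw [← h g hv hpg]
  ext r
  simp only [Nat.mem_primeFactors]
  constructor
  · rintro ⟨h1, h2, -⟩
    exact ⟨h1, hsub r h1 h2, (orderOf_pos x).ne'⟩
  · rintro ⟨h1, h2, -⟩
    exact ⟨h1, h2.trans hdvd, (orderOf_pos g).ne'⟩

/-- Solvability in S4849 from the rows. -/
theorem solvable_of_row49
    (hrow : ∀ (S : Type u) [Group S] [Finite S] [IsSimpleGroup S], (∃ a b : S, a * b ≠ b * a) →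
      Row49 S)
    {G : Type u} [Group G] [Finite G] {p : ℕ} (hp : p.Prime) {b : ℕ}
    (h : ∀ g : G, Van G g → ¬ p ∣ orderOf g → orderOf g = b) : Group.IsSolvable G := by
  by_contra hns
  obtain ⟨N, hN, T, hT, hTna, hTv⟩ := H690.Reduce.exists_section _ G le_rfl hns
  obtain ⟨x, y, hx, hy, h1, h2, h3⟩ := hrow T hTna p hp
  apply h3
  have e1 := primeFactors_eq hp h N (x : G ⧸ N) (hTv x hx) (by rwa [Subgroup.orderOf_coe])
  have e2 := primeFactors_eq hp h N (y : G ⧸ N) (hTv y hy) (by rwa [Subgroup.orderOf_coe])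
  rw [Subgroup.orderOf_coe] at e1 e2
  rw [← e1, ← e2]

/-- S4849 from the rows. -/
theorem result_of_row49
    (hrow : ∀ (S : Type u) [Group S] [Finite S] [IsSimpleGroup S], (∃ a b : S, a * b ≠ b * a) →
      Row49 S)
    {G : Type u} [Group G] [Finite G] (p : ℕ) [hp : Fact p.Prime] (b : ℕ)
    (hvo : {n : ℕ | ¬ p ∣ n ∧ ∃ (g : G) (χ : Cfsg.IrrCharacter G), orderOf g = n ∧
      (χ : G → ℂ) g = 0} = {b}) :
    Group.IsSolvable G ∧ ((¬ IsPrimePow b ∧ 1 < b) → ∃ K L N : Subgroup G, K.Normal ∧ L.Normal ∧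
      N.Normal ∧ N ≤ L ∧ L ≤ K ∧ (∃ a : ℕ, K.index = p ^ a) ∧ Nat.Coprime (L.relIndex K) p ∧
      (∃ b : ℕ, N.relIndex L = p ^ b) ∧ Nat.Coprime (Nat.card N) p) := by
  have h : ∀ g : G, Van G g → ¬ p ∣ orderOf g → orderOf g = b := by
    rintro g ⟨χ, hχ⟩ hg
    have h1 : orderOf g ∈ {n : ℕ | ¬ p ∣ n ∧ ∃ (g : G) (χ : Cfsg.IrrCharacter G), orderOf g = n ∧
      (χ : G → ℂ) g = 0} := ⟨hg, g, χ, rfl, hχ⟩
    rw [hvo] at h1
    exact h1
  have hsol : Group.IsSolvable G := solvable_of_row49 hrow hp.out h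
  refine ⟨hsol, ?_⟩
  rintro ⟨hb1, hb2⟩
  let P : Sylow p G := default
  obtain ⟨N, hN, -, hc⟩ := Solv.exists_compl p (by
    intro r hr hrp R
    refine Solv.normal_sylow (Nat.card G) G rfl ?_ R
    rintro g ⟨m, hm⟩ hv
    have h1 : ¬ p ∣ orderOf g := by
      rw [hm]
      intro h2
      exact hrp ((Nat.prime_dvd_prime_iff_eq hp.out hr.out).1 (hp.out.dvd_of_dvd_pow h2)).symm
    have h2 := h g hv h1
    rw [hm] at h2
    rcases Nat.eq_zero_or_pos m with h0 | h0
    · rw [h0, pow_zero] at h2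
      omega
    · apply hb1
      rw [← h2]
      exact hr.out.isPrimePow.pow h0.ne') P
  obtain ⟨k, hk⟩ := (IsPGroup.iff_card).1 P.2
  refine ⟨N, N, N, hN, hN, hN, le_rfl, le_rfl, ⟨k, ?_⟩, ?_, ⟨0, ?_⟩, ?_⟩
  · rw [← hk]
    exact hc.symm.index_eq_card
  · rw [Subgroup.relIndex_self]
    exact Nat.coprime_one_left p
  · rw [Subgroup.relIndex_self, pow_zero]
  · rw [← hc.index_eq_card]
    exact ((Nat.Prime.coprime_iff_not_dvd hp.out).2 P.not_dvd_index).symm

end Cfsg.Agent.H695
end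

-- part: H695/Third
section
set_option linter.all false
open scoped Cfsg.Agent.FastGrp

/-!
# A third zero (helper695)

* `exists_fixed`: a parity argument for a permutation of a finite set and an invariant function with
  values in the algebraic integers;
* `exists_vz`: if the Sylow subgroups of the finite non-abelian simple group `S` for the two primes `p` and `q`
  have orders `p` and `q`, if all `p`-singular elements have order `p` and if `|Out S| ≤ 2`, then some element of
  order prime to `p` and to `q` is a `VZ` element.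
-/

set_option autoImplicit false
set_option linter.dupNamespace false

namespace Cfsg.Agent.H695.Third

open Cfsg Cfsg.Agent.Characters.Core Cfsg.Agent.H713 Cfsg.Agent.H620 Cfsg.Agent.M23.BlockInt
open scoped ComplexConjugate

universe u v

/-- Sums over orbits of a permutation of `2`-power order, in a ring with `2 = 0`. -/
theorem sum_two_group {ι A : Type*} [DecidableEq ι] [CommRing A] (h2 : (2 : A) = 0) (f : ι → A) :
    ∀ (a : ℕ) (γ : Equiv.Perm ι), γ ^ (2 ^ a) = 1 → (∀ i, f (γ i) = f i) → ∀ T : Finset ι,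
      (∀ i ∈ T, γ i ∈ T) → ∑ i ∈ T, f i = ∑ i ∈ T.filter (fun i => γ i = i), f i := by
  intro a
  induction a with
  | zero =>
    intro γ h _ T _
    rw [pow_zero, pow_one] at h
    subst h
    simp
  | succ a ih =>
    intro γ h hf T hT
    have h1 : (γ ^ 2) ^ (2 ^ a) = 1 := by rw [← pow_mul, ← pow_succ']; exact h
    have h2' : ∀ i, (γ ^ 2) i = γ (γ i) := fun i => by rw [pow_two]; rfl
    have h3 := ih (γ ^ 2) h1 (fun i => by rw [h2', hf, hf]) T (fun i hi => by
      rw [h2']; exact hT _ (hT _ hi))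
    rw [h3]
    set T' := T.filter (fun i => (γ ^ 2) i = i) with hT'
    rw [← Finset.sum_filter_add_sum_filter_not T' (fun i => γ i = i) f]
    have h4 : ∑ i ∈ T'.filter (fun i => ¬ γ i = i), f i = 0 := by
      refine Finset.sum_involution (fun i _ => γ i) ?_ ?_ ?_ ?_
      · intro i _
        rw [hf, ← two_mul, h2, zero_mul]
      · intro i hi _
        exact (Finset.mem_filter.1 hi).2
      · intro i hi
        rw [Finset.mem_filter, hT', Finset.mem_filter] at hi ⊢
        obtain ⟨⟨hi1, hi2⟩, hi3⟩ := hi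
        rw [h2'] at hi2 ⊢
        exact ⟨⟨hT _ hi1, by rw [hi2]⟩, fun h => hi3 (γ.injective h)⟩
      · intro i hi
        rw [Finset.mem_filter, hT', Finset.mem_filter, h2'] at hi
        exact hi.1.2
    rw [h4, add_zero]
    congr 1
    ext i
    simp only [hT', Finset.mem_filter, h2']
    constructor
    · rintro ⟨⟨h5, -⟩, h6⟩; exact ⟨h5, h6⟩
    · rintro ⟨h5, h6⟩; exact ⟨⟨h5, by rw [h6, h6]⟩, h6⟩

/-- The parity argument. -/
theorem exists_fixed {ι : Type*} [Finite ι] (β : Equiv.Perm ι) (F : ι → ℂ)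
    (hint : ∀ i, IsIntegral ℤ (F i)) (hβ : ∀ i, F (β i) = F i) (o : ι) (ho : F o = 1) (hβo : β o = o)
    (T : Finset ι) (hoT : o ∈ T) (hT : ∀ i ∈ T, β i ∈ T) (hsum : ∑ i ∈ T, F i = 0) :
    ∃ i ∈ T, i ≠ o ∧ F i ≠ 0 ∧ ∃ k, Odd k ∧ (β ^ k) i = i := by
  classical
  by_contra hcon
  push Not at hcon
  have hpos : 0 < orderOf β := orderOf_pos β
  obtain ⟨a, m, hm, hn⟩ := Nat.exists_eq_two_pow_mul_odd hpos.ne'
  -- `γ = β ^ m`
  have hγ : (β ^ m) ^ (2 ^ a) = 1 := by
    rw [← pow_mul, mul_comm, ← hn, pow_orderOf_eq_one]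
  have hγF : ∀ k i, F ((β ^ k) i) = F i := by
    intro k
    induction k with
    | zero => intro i; rfl
    | succ k ih =>
      intro i
      rw [pow_succ, Equiv.Perm.mul_apply, ih, hβ]
  have hγT : ∀ k, ∀ i ∈ T, (β ^ k) i ∈ T := by
    intro k
    induction k with
    | zero => intro i hi; exact hi
    | succ k ih =>
      intro i hi
      rw [pow_succ, Equiv.Perm.mul_apply]
      exact ih _ (hT i hi)
  have hγo : ∀ k, (β ^ k) o = o := by
    intro k
    induction k with
    | zero => rfl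
    | succ k ih => rw [pow_succ, Equiv.Perm.mul_apply, hβo, ih]
  let R := integralClosure ℤ ℂ
  let I : Ideal R := Ideal.span {(2 : R)}
  let f : ι → R ⧸ I := fun i => Ideal.Quotient.mk I ⟨F i, hint i⟩
  have h2 : (2 : R ⧸ I) = 0 := by
    have : Ideal.Quotient.mk I (2 : R) = 0 :=
      Ideal.Quotient.eq_zero_iff_mem.2 (Ideal.mem_span_singleton_self _)
    exact this
  have h3 := sum_two_group h2 f a (β ^ m) hγ (fun i => by
    show Ideal.Quotient.mk I ⟨F ((β ^ m) i), _⟩ = Ideal.Quotient.mk I ⟨F i, _⟩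
    congr 1
    exact Subtype.ext (hγF m i)) T (hγT m)
  have h4 : ∑ i ∈ T, f i = 0 := by
    have h5 : ∑ i ∈ T, f i = Ideal.Quotient.mk I (∑ i ∈ T, ⟨F i, hint i⟩) := by
      rw [map_sum]
    rw [h5]
    have h6 : (∑ i ∈ T, (⟨F i, hint i⟩ : R)) = 0 := by
      apply Subtype.ext
      rw [AddSubmonoidClass.coe_finsetSum]
      exact hsum
    rw [h6, map_zero]
  have h5 : ∑ i ∈ T.filter (fun i => (β ^ m) i = i), f i = 1 := by
    rw [Finset.sum_eq_single o]
    · show Ideal.Quotient.mk I ⟨F o, _⟩ = 1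
      have : (⟨F o, hint o⟩ : R) = 1 := Subtype.ext ho
      rw [this, map_one]
    · intro i hi hio
      rw [Finset.mem_filter] at hi
      have h6 : F i = 0 := by
        by_contra h7
        exact hcon i hi.1 hio h7 m hm hi.2
      have : (⟨F i, hint i⟩ : R) = 0 := Subtype.ext h6
      show Ideal.Quotient.mk I ⟨F i, _⟩ = 0
      rw [this, map_zero]
    · intro h
      exfalso
      apply h
      rw [Finset.mem_filter]
      exact ⟨hoT, hγo m⟩
  rw [h4, h5] at h3
  have h6 : Ideal.Quotient.mk I (1 : R) = 0 := by rw [map_one]; exact h3.symm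
  rw [Ideal.Quotient.eq_zero_iff_mem, Ideal.mem_span_singleton] at h6
  obtain ⟨z, hz⟩ := h6
  have h7 : (1 : ℂ) = 2 * (z : ℂ) := congrArg Subtype.val hz
  have h8 : (z : ℂ) = algebraMap ℚ ℂ (1 / 2) := by
    have h8' : algebraMap ℚ ℂ (1 / 2) = 1 / 2 := by norm_num
    rw [h8', eq_div_iff (two_ne_zero (α := ℂ)), mul_comm]
    exact h7.symm
  have h9 : IsIntegral ℤ (1 / 2 : ℚ) := by
    have := z.2
    rw [mem_integralClosure_iff, h8] at this
    exact (isIntegral_algebraMap_iff (algebraMap ℚ ℂ).injective).1 this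
  obtain ⟨j, hj⟩ := IsIntegrallyClosed.isIntegral_iff.1 h9
  have h10 : (j : ℚ) = 1 / 2 := hj
  rw [eq_div_iff two_ne_zero] at h10
  have h11 : j * 2 = 1 := by exact_mod_cast h10
  omega

/-- Prescribed residues modulo two primes, prime to `N`. -/
theorem exists_coprime_modEq {p q N : ℕ} (hp : p.Prime) (hq : q.Prime) (hpq : p ≠ q) (hN : N ≠ 0) {a b : ℕ}
    (ha : ¬ p ∣ a) (hb : ¬ q ∣ b) : ∃ m : ℕ, m.Coprime N ∧ m ≡ a [MOD p] ∧ m ≡ b [MOD q] := by
  set R := ordCompl[q] (ordCompl[p] N) with hR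
  have hN1 : ordCompl[p] N ≠ 0 := (Nat.ordCompl_pos p hN).ne'
  have hqR : q.Coprime R := Nat.coprime_ordCompl hq hN1
  have hpR : p.Coprime R := by
    refine Nat.Coprime.coprime_dvd_right (Nat.ordCompl_dvd _ _) (Nat.coprime_ordCompl hp hN)
  have hpq' : p.Coprime q := (Nat.coprime_primes hp hq).2 hpq
  obtain ⟨c, hc1, hc2⟩ := Nat.chineseRemainder hpq' a b
  obtain ⟨m, hm1, hm2⟩ := Nat.chineseRemainder (Nat.Coprime.mul_left hpR hqR) c 1
  have e1 : m ≡ a [MOD p] := (hm1.of_dvd (dvd_mul_right p q)).trans hc1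
  have e2 : m ≡ b [MOD q] := (hm1.of_dvd (dvd_mul_left q p)).trans hc2
  refine ⟨m, ?_, e1, e2⟩
  have f1 : m.Coprime p := by
    refine ((Nat.Prime.coprime_iff_not_dvd hp).2 fun h => ha ?_).symm
    exact (Nat.modEq_zero_iff_dvd).1 (e1.symm.trans ((Nat.modEq_zero_iff_dvd).2 h))
  have f2 : m.Coprime q := by
    refine ((Nat.Prime.coprime_iff_not_dvd hq).2 fun h => hb ?_).symm
    exact (Nat.modEq_zero_iff_dvd).1 (e2.symm.trans ((Nat.modEq_zero_iff_dvd).2 h))
  have f3 : m.Coprime R := by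
    have := hm2.gcd_eq
    rw [Nat.gcd_one_left] at this
    exact this
  have g1 : m.Coprime (ordCompl[p] N) := by
    rw [← Nat.ordProj_mul_ordCompl_eq_self (ordCompl[p] N) q]
    exact Nat.Coprime.mul_right (Nat.Coprime.pow_right _ f2) f3
  rw [← Nat.ordProj_mul_ordCompl_eq_self N p]
  exact Nat.Coprime.mul_right (Nat.Coprime.pow_right _ f1) g1

variable {S : Type v} [Group S] [Finite S]

/-- Galois conjugates of zeros. -/
theorem apply_pow_eq_zero_iff {m : ℕ} (hm : m.Coprime (Nat.card S)) (χ : IrrCharacter S) (g : S) :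
    (χ : S → ℂ) (g ^ m) = 0 ↔ (χ : S → ℂ) g = 0 := by
  obtain ⟨σ, hσ⟩ := Cfsg.Agent.Characters.GaloisBasic.exists_ringEquiv_of_coprime (G := S) hm
  rw [← hσ _ (isIrr_isCharacter χ.2) g]
  exact σ.map_eq_zero_iff

/-- Elements of order `p` are conjugate to powers of each other if the Sylow subgroups have order `p`. -/
theorem exists_conj_pow {p : ℕ} [hp : Fact p.Prime] (hG : (Nat.card S).factorization p = 1) {x y : S}
    (hx : orderOf x = p) (hy : orderOf y = p) : ∃ (c : S) (i : ℕ), c * y * c⁻¹ = x ^ i ∧ ¬ p ∣ i := by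
  have h1 : Nat.card (Subgroup.zpowers x) = p ^ (Nat.card S).factorization p := by
    rw [Nat.card_zpowers, hx, hG, pow_one]
  have h2 : Nat.card (Subgroup.zpowers y) = p ^ (Nat.card S).factorization p := by
    rw [Nat.card_zpowers, hy, hG, pow_one]
  let P : Sylow p S := Sylow.ofCard _ h1
  let Q : Sylow p S := Sylow.ofCard _ h2
  obtain ⟨c, hc⟩ := MulAction.exists_smul_eq S Q P
  have h3 : c * y * c⁻¹ ∈ Subgroup.zpowers x := by
    have h4 : (c • Q : Sylow p S) = P := hc
    have h5 : c * y * c⁻¹ ∈ ((c • Q : Sylow p S) : Subgroup S) := by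
      rw [Sylow.coe_subgroup_smul]
      exact Subgroup.smul_mem_pointwise_smul y (MulAut.conj c) (Q : Subgroup S) (Subgroup.mem_zpowers y)
    rw [h4] at h5
    exact h5
  rw [← mem_powers_iff_mem_zpowers] at h3
  obtain ⟨i, hi⟩ := h3
  refine ⟨c, i, hi.symm, fun hd => ?_⟩
  obtain ⟨k, rfl⟩ := hd
  have h6 : c * y * c⁻¹ = 1 := by
    rw [← hi]
    show x ^ (p * k) = 1
    rw [pow_mul, ← hx, pow_orderOf_eq_one, one_pow]
  rw [conj_eq_one_iff] at h6
  rw [h6, orderOf_one] at hy
  exact hp.out.one_lt.ne hy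

/-- The twist of an irreducible character by an automorphism and a Galois automorphism. -/
def tw (α : MulAut S) {m : ℕ} (hm : m.Coprime (Nat.card S)) (χ : IrrCharacter S) : IrrCharacter S :=
  powIrr hm ⟨(χ : S → ℂ) ∘ α, isIrr_comp (α : S →* S) α.surjective χ.2⟩

theorem tw_apply (α : MulAut S) {m : ℕ} (hm : m.Coprime (Nat.card S)) (χ : IrrCharacter S) (g : S) :
    (tw α hm χ : S → ℂ) g = (χ : S → ℂ) (α g ^ m) := by
  show (χ : S → ℂ) (α (g ^ m)) = _
  rw [map_pow]

theorem tw_injective (α : MulAut S) {m : ℕ} (hm : m.Coprime (Nat.card S)) :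
    Function.Injective (tw α hm) := by
  intro χ ψ h
  apply Subtype.ext
  funext g
  obtain ⟨h1, hh1⟩ := (powCoprime (G := S) hm.symm).surjective g
  have h2 := congrFun (congrArg Subtype.val h) (α.symm h1)
  have h3 : (χ : S → ℂ) (α (α.symm h1) ^ m) = (ψ : S → ℂ) (α (α.symm h1) ^ m) := by
    rw [← tw_apply α hm χ, ← tw_apply α hm ψ]
    exact h2
  have h4 : h1 ^ m = g := hh1
  rw [α.apply_symm_apply, h4] at h3
  exact h3

/-- The twist as a permutation. -/
noncomputable def twPerm (α : MulAut S) {m : ℕ} (hm : m.Coprime (Nat.card S)) :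
    Equiv.Perm (IrrCharacter S) :=
  have : Finite (IrrCharacter S) := finite_irr
  Equiv.ofBijective (tw α hm) (Finite.injective_iff_bijective.1 (tw_injective α hm))

theorem twPerm_apply (α : MulAut S) {m : ℕ} (hm : m.Coprime (Nat.card S)) (χ : IrrCharacter S) (g : S) :
    (twPerm α hm χ : S → ℂ) g = (χ : S → ℂ) (α g ^ m) := tw_apply α hm χ g

theorem twPerm_pow_apply (α : MulAut S) {m : ℕ} (hm : m.Coprime (Nat.card S)) (k : ℕ)
    (χ : IrrCharacter S) (g : S) :
    ((twPerm α hm ^ k) χ : S → ℂ) g = (χ : S → ℂ) ((α ^ k) g ^ m ^ k) := by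
  induction k generalizing χ g with
  | zero => simp
  | succ k ih =>
    rw [pow_succ, Equiv.Perm.mul_apply, ih, twPerm_apply, pow_succ' α, MulAut.mul_apply, map_pow, ← pow_mul,
      ← pow_succ]

theorem tw_mem {M : Ideal AlgInt} (α : MulAut S) {m : ℕ} (hm : m.Coprime (Nat.card S)) {χ : IrrCharacter S}
    (hχ : χ ∈ principalBlock M S) : tw α hm χ ∈ principalBlock M S := by
  apply powIrr_mem
  intro g
  have h1 := hχ (α g)
  have h2 : (Subgroup.centralizer ({α g} : Set S)).index = (Subgroup.centralizer ({g} : Set S)).index := by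
    have h3 : Subgroup.centralizer ({α g} : Set S) =
        (Subgroup.centralizer ({g} : Set S)).map (α : S ≃* S).toMonoidHom := by
      ext x
      rw [Subgroup.mem_centralizer_singleton_iff, Subgroup.mem_map]
      constructor
      · intro hx
        refine ⟨α.symm x, ?_, α.apply_symm_apply x⟩
        rw [Subgroup.mem_centralizer_singleton_iff]
        apply α.injective
        rw [map_mul, map_mul, α.apply_symm_apply]
        exact hx
      · rintro ⟨z, hz, rfl⟩
        rw [Subgroup.mem_centralizer_singleton_iff] at hz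
        show α z * α g = α g * α z
        rw [← map_mul, ← map_mul, hz]
    rw [h3]
    exact Subgroup.index_map_of_bijective α.bijective _
  simp only [centralChar, Function.comp_apply, map_one] at h1 ⊢
  rw [h2] at h1
  exact h1

omit [Finite S] in
theorem hout_cases (hout : ((MulAut.conj : S →* MulAut S).range).index ∣ 2) :
    ∃ α : MulAut S, ∀ k, Odd k → ∀ γ : MulAut S, (∃ c, γ = MulAut.conj c) ∨
      ∃ c, γ = MulAut.conj c * α ^ k := by
  set I := (MulAut.conj : S →* MulAut S).range with hI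
  rcases (Nat.dvd_prime Nat.prime_two).1 hout with h1 | h1
  · refine ⟨1, fun k _ γ => Or.inl ?_⟩
    rw [Subgroup.index_eq_one] at h1
    have : γ ∈ I := by rw [h1]; trivial
    obtain ⟨c, hc⟩ := this
    exact ⟨c, hc.symm⟩
  · have hne : I ≠ ⊤ := by
      intro h
      rw [h, Subgroup.index_top] at h1
      omega
    obtain ⟨α, hα⟩ : ∃ α, α ∉ I := by
      by_contra hcon
      push Not at hcon
      exact hne ((Subgroup.eq_top_iff' I).2 hcon)
    refine ⟨α, fun k hk γ => ?_⟩
    have hαk : α ^ k ∉ I := by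
      obtain ⟨j, rfl⟩ := hk
      intro h
      apply hα
      have h2 : α ^ (2 * j) ∈ I := by
        rw [pow_mul]
        exact I.pow_mem (Subgroup.sq_mem_of_index_two h1 α) j
      have h3 : α = (α ^ (2 * j))⁻¹ * α ^ (2 * j + 1) := by
        rw [pow_succ, inv_mul_cancel_left]
      rw [h3]
      exact I.mul_mem (I.inv_mem h2) h
    by_cases hγ : γ ∈ I
    · left
      obtain ⟨c, hc⟩ := hγ
      exact ⟨c, hc.symm⟩
    · right
      have h2 : γ * (α ^ k)⁻¹ ∈ I := by
        rw [Subgroup.mul_mem_iff_of_index_two h1]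
        simp [hγ, hαk]
      obtain ⟨c, hc⟩ := h2
      exact ⟨c, by rw [hc, inv_mul_cancel_right]⟩

/-- **The third zero.** -/
theorem exists_vz [IsSimpleGroup S] (hna : ∃ a b : S, a * b ≠ b * a) {p q : ℕ} [hp : Fact p.Prime]
    [hq : Fact q.Prime] (hpq : p ≠ q) (hGp : (Nat.card S).factorization p = 1)
    (hGq : (Nat.card S).factorization q = 1) (hiso : ∀ y : S, p ∣ orderOf y → orderOf y = p)
    (hout : ((MulAut.conj : S →* MulAut S).range).index ∣ 2) :
    ∃ g : S, VZ S g ∧ ¬ p ∣ orderOf g ∧ ¬ q ∣ orderOf g := by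
  classical
  have hfin : Finite (IrrCharacter S) := finite_irr
  have dvd : ∀ r : ℕ, (Nat.card S).factorization r = 1 → r ∣ Nat.card S := fun r hr => by
    have := Nat.ordProj_dvd (Nat.card S) r
    rwa [hr, pow_one] at this
  obtain ⟨y, hy⟩ := exists_prime_orderOf_dvd_card' p (dvd p hGp)
  obtain ⟨x, hx⟩ := exists_prime_orderOf_dvd_card' q (dvd q hGq)
  obtain ⟨M, hM⟩ := Cfsg.Agent.Blocks.ExistsModular.exists_isPModular hq.out
  obtain ⟨α, hα⟩ := hout_cases hout
  -- the exponent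
  obtain ⟨c, i, hci, hi⟩ := exists_conj_pow hGp hy (y := α y) (by rw [MulEquiv.orderOf_eq, hy])
  obtain ⟨d, j, hdj, hj⟩ := exists_conj_pow hGq hx (y := α x) (by rw [MulEquiv.orderOf_eq, hx])
  have hinv : ∀ {r i : ℕ}, r.Prime → ¬ r ∣ i → ∃ a, ¬ r ∣ a ∧ i * a ≡ 1 [MOD r] := by
    intro r i hr hri
    have hco : i.Coprime r := ((Nat.Prime.coprime_iff_not_dvd hr).2 hri).symm
    obtain ⟨a, -, ha⟩ := Nat.exists_mul_mod_eq_one_of_coprime hco hr.one_lt
    refine ⟨a, fun hd => ?_, ?_⟩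
    · obtain ⟨b, rfl⟩ := hd
      rw [show i * (r * b) = r * (i * b) by ring, Nat.mul_mod_right] at ha
      omega
    · unfold Nat.ModEq
      rw [ha, Nat.mod_eq_of_lt hr.one_lt]
  obtain ⟨a, ha, hia⟩ := hinv hp.out hi
  obtain ⟨b, hb, hjb⟩ := hinv hq.out hj
  obtain ⟨m, hm, hma, hmb⟩ := exists_coprime_modEq hp.out hq.out hpq (Nat.card_pos (α := S)).ne' ha hb
  have hconj : ∀ {r i m a : ℕ} {z w c : S}, orderOf z = r → c * w * c⁻¹ = z ^ i → i * a ≡ 1 [MOD r] →
      m ≡ a [MOD r] → IsConj (w ^ m) z := by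
    intro r i m a z w c hz hc h1 h2
    refine isConj_iff.2 ⟨c, ?_⟩
    rw [← conj_pow, hc, ← pow_mul]
    have h3 : i * m ≡ 1 [MOD orderOf z] := by
      rw [hz]
      exact (h2.mul_left i).trans h1
    have := pow_eq_pow_iff_modEq.2 h3
    rw [this, pow_one]
  have hyc : IsConj (α y ^ m) y := hconj hy hci hia hma
  have hxc : IsConj (α x ^ m) x := hconj hx hdj hjb hmb
  have hcl : ∀ (χ : IrrCharacter S) {g h : S}, IsConj g h → (χ : S → ℂ) g = (χ : S → ℂ) h := by
    intro χ g h hgh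
    obtain ⟨c, rfl⟩ := isConj_iff.1 hgh
    exact (isIrr_isClassFunction χ.2 g c).symm
  -- the invariant function
  let F : IrrCharacter S → ℂ := fun χ => (χ : S → ℂ) y * conj ((χ : S → ℂ) x)
  have hF : ∀ χ, F (twPerm α hm χ) = F χ := by
    intro χ
    show (twPerm α hm χ : S → ℂ) y * conj ((twPerm α hm χ : S → ℂ) x) = _
    rw [twPerm_apply, twPerm_apply, hcl χ hyc, hcl χ hxc]
  have hFint : ∀ χ, IsIntegral ℤ (F χ) := by
    intro χ
    refine (Cfsg.Agent.H665.DefZero.isIntegral_char (isIrr_isCharacter χ.2) y).mul ?_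
    have h1 := Cfsg.Agent.H665.DefZero.isIntegral_char (isIrr_isCharacter χ.2) x
    exact h1.map (Complex.conjAe.toAlgHom.restrictScalars ℤ)
  let o : IrrCharacter S := ⟨1, isIrr_one⟩
  have hfinB : (principalBlock M S).Finite := Set.toFinite _
  let T : Finset (IrrCharacter S) := hfinB.toFinset
  have hT : ∀ χ, χ ∈ T ↔ χ ∈ principalBlock M S := fun χ => Set.Finite.mem_toFinset _
  have hoT : o ∈ T := by
    rw [hT]
    have hprime : M.IsPrime := hM.2.1.isPrime
    exact Cfsg.Agent.Blocks.Basic.mem_blockOf.2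
      (Cfsg.Agent.Blocks.Basic.sameBlock_refl (fun _ : S => (1 : ℂ)))
  have hpy : ¬ q ∣ orderOf y := by
    rw [hy]
    exact fun h => hpq ((Nat.prime_dvd_prime_iff_eq hq.out hp.out).1 h).symm
  have hsum : ∑ χ ∈ T, F χ = 0 := by
    have hblock : IsPBlock M (principalBlock M S) :=
      ⟨⟨fun _ => 1, Cfsg.Agent.Blocks.Basic.isIrrCharacter_one⟩, rfl⟩
    have h1 := Cfsg.Agent.S0907.result q M hM (principalBlock M S) hblock y x hpy (by rw [hx])
    rw [finsum_mem_eq_finite_toFinset_sum _ hfinB] at h1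
    exact h1
  obtain ⟨χ, hχT, hχo, hχF, k, hk, hχk⟩ := exists_fixed (twPerm α hm) F hFint hF o (by
    show (1 : S → ℂ) y * conj ((1 : S → ℂ) x) = 1
    simp) (by
      apply Subtype.ext
      funext g
      rw [twPerm_apply]
      rfl) T hoT (fun χ hχ => by
        rw [hT] at hχ ⊢
        exact tw_mem α hm hχ) hsum
  have hχB := (hT χ).1 hχT
  have hχy : (χ : S → ℂ) y ≠ 0 := fun h => hχF (by show (χ : S → ℂ) y * _ = 0; rw [h, zero_mul])
  -- it is not linear
  have hχ1 : (χ : S → ℂ) 1 ≠ 1 := by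
    intro h
    apply hχo
    obtain ⟨f, hf⟩ := Cfsg.Agent.Characters.Linear.exists_hom_of_isIrrCharacter χ.2 h
    have hker : f.ker = ⊤ := by
      rcases f.normal_ker.eq_bot_or_eq_top with h1 | h1
      · exfalso
        obtain ⟨a, b, hab⟩ := hna
        apply hab
        apply (MonoidHom.ker_eq_bot_iff f).1 h1
        rw [map_mul, map_mul, mul_comm]
      · exact h1
    apply Subtype.ext
    funext g
    have h1 : f g = 1 := by
      have : g ∈ f.ker := by rw [hker]; trivial
      exact this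
    rw [hf]
    show ((f g : ℂˣ) : ℂ) = 1
    rw [h1, Units.val_one]
  obtain ⟨g, hg⟩ : ∃ g, (χ : S → ℂ) g = 0 := by
    by_contra hcon
    push Not at hcon
    exact hχ1 (Cfsg.Agent.H404.VanishBlock.linear_of_ne_zero χ.2 hcon)
  refine ⟨g, ⟨χ, fun γ => ?_⟩, fun hd => ?_, fun hd => ?_⟩
  · -- automorphisms
    rcases hα k hk γ with ⟨c, rfl⟩ | ⟨c, rfl⟩
    · rw [MulAut.conj_apply, isIrr_isClassFunction χ.2]
      exact hg
    · rw [MulAut.mul_apply, MulAut.conj_apply, isIrr_isClassFunction χ.2]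
      have h1 : ((twPerm α hm ^ k) χ : S → ℂ) g = 0 := by rw [hχk]; exact hg
      rw [twPerm_pow_apply, apply_pow_eq_zero_iff (Nat.Coprime.pow_left k hm)] at h1
      exact h1
  · -- `p` does not divide the order
    have hgo := hiso g hd
    obtain ⟨c, i, hci, hi⟩ := exists_conj_pow hGp hy hgo
    obtain ⟨n, hn, hni, -⟩ := exists_coprime_modEq hp.out hq.out hpq (Nat.card_pos (α := S)).ne' hi
      (fun h => hq.out.one_lt.ne' (Nat.dvd_one.1 h))
    have h1 : (χ : S → ℂ) (y ^ n) = 0 := by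
      have h2 : y ^ n = y ^ i := pow_eq_pow_iff_modEq.2 (by rw [hy]; exact hni)
      rw [h2, ← hci, isIrr_isClassFunction χ.2]
      exact hg
    exact hχy ((apply_pow_eq_zero_iff hn χ y).1 h1)
  · -- `q` does not divide the order
    refine Cfsg.Agent.H404.VanishBlock.ne_zero_of_principal hM hχB (x := g) ?_ hg
    intro h1
    have h2 : q ∣ Nat.card (Subgroup.centralizer ({g} : Set S)) := by
      refine hd.trans ?_
      have h3 : g ∈ Subgroup.centralizer ({g} : Set S) := Subgroup.mem_centralizer_singleton_iff.2 rfl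
      rw [← Subgroup.orderOf_mk g h3]
      exact orderOf_dvd_natCard _
    have h3 := (Subgroup.centralizer ({g} : Set S)).card_mul_index
    have h4 : q ^ 2 ∣ Nat.card S := by
      rw [← h3, pow_two]
      exact Nat.mul_dvd_mul h2 h1
    have := (hq.out.pow_dvd_iff_le_factorization Nat.card_pos.ne').1 h4
    omega

/-- `Tri` from two primes. -/
theorem tri [IsSimpleGroup S] (hna : ∃ a b : S, a * b ≠ b * a) {p q : ℕ} [hp : Fact p.Prime]
    [hq : Fact q.Prime] (hpq : p ≠ q) (hGp : (Nat.card S).factorization p = 1)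
    (hGq : (Nat.card S).factorization q = 1) (hiso : ∀ y : S, p ∣ orderOf y → orderOf y = p)
    (hout : ((MulAut.conj : S →* MulAut S).range).index ∣ 2) (hdp : Cfsg.Agent.H665.NoPQ.HasDZ p S)
    (hdq : Cfsg.Agent.H665.NoPQ.HasDZ q S) : Tri S := by
  obtain ⟨g, hg, h1, h2⟩ := exists_vz hna hpq hGp hGq hiso hout
  have dvd : ∀ r : ℕ, (Nat.card S).factorization r = 1 → r ∣ Nat.card S := fun r hr => by
    have := Nat.ordProj_dvd (Nat.card S) r
    rwa [hr, pow_one] at this
  obtain ⟨y, hy⟩ := exists_prime_orderOf_dvd_card' p (dvd p hGp)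
  obtain ⟨x, hx⟩ := exists_prime_orderOf_dvd_card' q (dvd q hGq)
  refine ⟨y, x, g, HasDZ.vz hdp (by rw [hy]), HasDZ.vz hdq (by rw [hx]), hg, ?_, ?_, ?_⟩
  · rw [hy, hx]; exact (Nat.coprime_primes hp.out hq.out).2 hpq
  · rw [hy]; exact (Nat.Prime.coprime_iff_not_dvd hp.out).2 h1
  · rw [hx]; exact (Nat.Prime.coprime_iff_not_dvd hq.out).2 h2

end Cfsg.Agent.H695.Third

private theorem dce_7148daefcb8f : _root_.True := by
  try have : _root_.True := by simp only [_root_.Cfsg.Agent.H695.Third.twPerm.congr_simp]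
  exact _root_.True.intro
end
end
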